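import Cfsg.Agent.H24.Om.Line
import Mathlib.FieldTheory.Finite.Basic

/-!
# `PSL₂(7)` in `Ω₈⁻(q)` (helper24, row S5827)

* `weights_l27` : the weights of an element of order seven, `p ≠ 7`;
* `no_borel_fixed` : no fixed vectors of the Borel subgroup, `p ≠ 7`;
* `no_l27_three` : `p = 3`.
-/

set_option autoImplicit false
set_option linter.unusedSectionVars false

namespace Cfsg.Agent.H24.Om

open Matrix OnePoint Module
open Cfsg.Agent.H917.Om Cfsg.Agent.H637.JW
open Cfsg.Agent.H871.Par (ut dg ut_mul ut_inj dg_ut)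

universe u v w

theorem cast_ne_zero {F : Type u} [Field F] {n : ℕ} (hn : (n : F) ≠ 0) : (n : AlgebraicClosure F) ≠ 0 := by
  intro h0
  apply hn
  have h1 : algebraMap F (AlgebraicClosure F) (n : F) = 0 := by rw [map_natCast]; exact h0
  exact (map_eq_zero _).1 h1

section dg

variable {K : Type v} [Field K]

theorem dg_mul {l m : K} (hl : l ≠ 0) (hm : m ≠ 0) : dg l hl * dg m hm = dg (l * m) (mul_ne_zero hl hm) := by
  apply Subtype.ext
  change !![l, 0; 0, l⁻¹] * !![m, 0; 0, m⁻¹] = !![l * m, 0; 0, (l * m)⁻¹]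
  ext i j
  fin_cases i <;> fin_cases j <;> simp [Matrix.mul_apply, Fin.sum_univ_two, mul_comm]

theorem dg_congr {l m : K} (hl : l ≠ 0) (h : l = m) : dg l hl = dg m (h ▸ hl) := by
  subst h; rfl

theorem dg_one : dg (1 : K) one_ne_zero = 1 := by
  apply Subtype.ext
  change !![(1 : K), 0; 0, 1⁻¹] = 1
  rw [inv_one]
  exact Matrix.one_fin_two.symm

theorem dg_neg_one_mem : dg (-1 : K) (neg_ne_zero.2 one_ne_zero) ∈ Subgroup.center (SpecialLinearGroup (Fin 2) K) := by
  rw [Subgroup.mem_center_iff]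
  intro g
  apply Subtype.ext
  change g.1 * !![(-1 : K), 0; 0, (-1)⁻¹] = !![(-1 : K), 0; 0, (-1)⁻¹] * g.1
  ext i j
  fin_cases i <;> fin_cases j <;> simp [Matrix.mul_apply, Fin.sum_univ_two, inv_neg]

/-- upper triangular matrices -/
theorem upper_eq (b : SpecialLinearGroup (Fin 2) K) (hb : b.1 1 0 = 0) :
    ∃ (x : K) (hx : x ≠ 0) (t : K), b = dg x hx * ut t := by
  have hdet := b.2
  rw [Matrix.det_fin_two, hb, mul_zero, sub_zero] at hdet
  have h0 : b.1 0 0 ≠ 0 := left_ne_zero_of_mul_eq_one hdet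
  refine ⟨b.1 0 0, h0, (b.1 0 0)⁻¹ * b.1 0 1, ?_⟩
  apply Subtype.ext
  change b.1 = !![b.1 0 0, 0; 0, (b.1 0 0)⁻¹] * !![1, (b.1 0 0)⁻¹ * b.1 0 1; 0, 1]
  ext i j
  fin_cases i <;> fin_cases j <;> simp [Matrix.mul_apply, Fin.sum_univ_two, hb, h0]
  exact eq_inv_of_mul_eq_one_right hdet

theorem ut_pow (t : K) (n : ℕ) : ut t ^ n = ut ((n : K) * t) := by
  induction n with
  | zero =>
    rw [pow_zero, Nat.cast_zero, zero_mul]
    apply Subtype.ext
    change (1 : Matrix (Fin 2) (Fin 2) K) = !![(1 : K), 0; 0, 1]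
    exact Matrix.one_fin_two
  | succ n ih =>
    rw [pow_succ, ih, ut_mul]
    congr 1
    push_cast
    ring

end dg

section seven

variable {F : Type u} [Field F] {K : Type v} [Field K] [Fintype K] (hK : Fintype.card K = 7)

include hK in
theorem char_seven : CharP K 7 := by
  obtain ⟨p, hp⟩ := CharP.exists K
  have : Fact p.Prime := ⟨CharP.char_is_prime K p⟩
  have h1 : p ∣ Fintype.card K := by
    obtain ⟨n, -, hn⟩ := FiniteField.card K p
    rw [hn]; exact dvd_pow_self _ n.pos.ne'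
  rw [hK] at h1
  rw [(Nat.prime_dvd_prime_iff_eq this.out (by norm_num)).1 h1] at hp
  exact hp

include hK in
theorem seven_eq_zero : (7 : K) = 0 := by
  have := char_seven hK
  exact_mod_cast CharP.cast_eq_zero K 7

include hK in
theorem four_ne_zero' : (4 : K) ≠ 0 := by
  intro h4
  have h7 := seven_eq_zero hK
  have : (1 : K) = 0 := by linear_combination 2 * h4 - h7
  exact one_ne_zero this

include hK in
theorem exists_nat (x : K) : ∃ n : ℕ, n < 7 ∧ x = (n : K) := by
  have hc := char_seven hK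
  have : Fact (Nat.Prime 7) := ⟨by norm_num⟩
  let f : ZMod 7 →+* K := ZMod.castHom (dvd_refl 7) K
  have hf : Function.Bijective f := by
    rw [Fintype.bijective_iff_injective_and_card]
    exact ⟨f.injective, by rw [ZMod.card, hK]⟩
  obtain ⟨n, rfl⟩ := hf.2 x
  refine ⟨n.val, ZMod.val_lt n, ?_⟩
  have h1 : f ((n.val : ℕ) : ZMod 7) = (n.val : K) := map_natCast f _
  rw [← h1, ZMod.natCast_val, ZMod.cast_id]

variable (h : OC F (Matrix.ProjectiveSpecialLinearGroup (Fin 2) K))

include hK in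
/-- a vector fixed by generators of the Borel subgroup is fixed by it -/
theorem borel_fixed {v : Fin 8 → AlgebraicClosure F} (h1 : tau h (ut 1) v = v)
    (h2 : tau h (dg 4 (four_ne_zero' hK)) v = v) (b : SpecialLinearGroup (Fin 2) K) (hb : b.1 1 0 = 0) :
    tau h b v = v := by
  let S := stab (tau h) v
  change b ∈ S
  have h1 : ut (1 : K) ∈ S := h1
  have h2 : dg (4 : K) (four_ne_zero' hK) ∈ S := h2
  have h7 := seven_eq_zero hK
  have hm1 : dg (-1 : K) (neg_ne_zero.2 one_ne_zero) ∈ S := by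
    change tau h _ v = v
    rw [tau_center h dg_neg_one_mem, Module.End.one_apply]
  have hne : ∀ (x : K) (hx : x ≠ 0), dg x hx ∈ S → dg (-x) (neg_ne_zero.2 hx) ∈ S := by
    intro x hx hxS
    have h3 := mul_mem hm1 hxS
    rw [dg_mul] at h3
    rwa [dg_congr _ (neg_one_mul x)] at h3
  have d1 : dg (1 : K) one_ne_zero ∈ S := by rw [dg_one]; exact one_mem _
  have d2 : dg ((4 : K) * 4) (mul_ne_zero (four_ne_zero' hK) (four_ne_zero' hK)) ∈ S := by
    rw [← dg_mul (four_ne_zero' hK) (four_ne_zero' hK)]; exact mul_mem h2 h2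
  have hut : ∀ t : K, ut t ∈ S := by
    intro t
    obtain ⟨n, -, rfl⟩ := exists_nat hK t
    have := pow_mem h1 n
    rwa [ut_pow, mul_one] at this
  have hdg : ∀ (x : K) (hx : x ≠ 0), dg x hx ∈ S := by
    intro x hx
    obtain ⟨n, hn, hxn⟩ := exists_nat hK x
    have key : x = 1 ∨ x = 4 * 4 ∨ x = - 4 ∨ x = 4 ∨ x = - (4 * 4) ∨ x = - 1 := by
      interval_cases n
      · exact absurd (by rw [hxn]; norm_num) hx
      · left; rw [hxn]; norm_num
      · right; left; rw [hxn]; push_cast; linear_combination (-2) * h7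
      · right; right; left; rw [hxn]; push_cast; linear_combination h7
      · right; right; right; left; rw [hxn]; norm_num
      · right; right; right; right; left; rw [hxn]; push_cast; linear_combination 3 * h7
      · right; right; right; right; right; rw [hxn]; push_cast; linear_combination h7
    rcases key with rfl | rfl | rfl | rfl | rfl | rfl
    · exact d1
    · exact d2
    · exact hne _ _ h2
    · exact h2
    · exact hne _ _ d2
    · exact hm1
  obtain ⟨x, hx, t, rfl⟩ := upper_eq b hb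
  exact mul_mem (hdg x hx) (hut t)

include hK in
/-- **No fixed vectors of the Borel subgroup.** -/
theorem no_borel_fixed {v : Fin 8 → AlgebraicClosure F} (h1 : tau h (ut 1) v = v)
    (h2 : tau h (dg 4 (four_ne_zero' hK)) v = v) : v = 0 := by
  classical
  by_contra h0
  have hv := borel_fixed hK h h1 h2
  have hsp := span_tr h h0 hv
  have hsum := sum_tr h hv
  have hcard : Fintype.card (OnePoint K) = 8 := by
    have : Fintype.card (OnePoint K) = Fintype.card K + 1 := Fintype.card_option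
    rw [this, hK]
  have hli : LinearIndependent (AlgebraicClosure F) (tr (tau h) v) :=
    linearIndependent_of_top_le_span_of_card_eq_finrank hsp.ge (by rw [Module.finrank_fin_fun, hcard])
  have h3 := Fintype.linearIndependent_iff.1 hli (fun _ => 1) (by simpa using hsum) ∞
  exact one_ne_zero h3

/-- the element of order seven -/
def uu : Matrix.ProjectiveSpecialLinearGroup (Fin 2) K := QuotientGroup.mk (ut 1)

include hK in
theorem uu_pow : (uu : Matrix.ProjectiveSpecialLinearGroup (Fin 2) K) ^ 7 = 1 := by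
  have h1 : (ut (1 : K)) ^ 7 = 1 := by
    rw [ut_pow, mul_one]
    have : ((7 : ℕ) : K) = ((0 : ℕ) : K) := by push_cast; exact seven_eq_zero hK
    rw [this, ← mul_one ((0 : ℕ) : K), ← ut_pow, pow_zero]
  rw [uu, ← QuotientGroup.mk_pow, h1]
  rfl

theorem uu_ne_one : (uu : Matrix.ProjectiveSpecialLinearGroup (Fin 2) K) ≠ 1 := by
  intro h
  have h1 := (QuotientGroup.eq_one_iff _).1 h
  rw [Subgroup.mem_center_iff] at h1
  have h2 := h1 (rp 0)
  have h3 := congrArg (fun g : SpecialLinearGroup (Fin 2) K => g.1 0 0) h2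
  change (!![(0 : K), -1; 1, 0] * !![1, 1; 0, 1] : Matrix (Fin 2) (Fin 2) K) 0 0 =
    (!![(1 : K), 1; 0, 1] * !![0, -1; 1, 0] : Matrix (Fin 2) (Fin 2) K) 0 0 at h3
  simp [Matrix.mul_apply, Fin.sum_univ_two] at h3

include hK in
theorem conj_ut : dg (4 : K) (four_ne_zero' hK) * ut 1 * (dg (4 : K) (four_ne_zero' hK))⁻¹ = ut 1 ^ 2 := by
  rw [dg_ut, ut_pow]
  congr 1
  push_cast
  linear_combination 2 * seven_eq_zero hK

include hK in
theorem conj_inv_ut : (dg (4 : K) (four_ne_zero' hK))⁻¹ * ut 1 * dg (4 : K) (four_ne_zero' hK) = ut 1 ^ 4 := by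
  have h1 := conj_ut hK
  have h2 : ut (1 : K) = dg (4 : K) (four_ne_zero' hK) * ut 1 ^ 4 * (dg (4 : K) (four_ne_zero' hK))⁻¹ := by
    have h3 : (dg (4 : K) (four_ne_zero' hK) * ut 1 * (dg (4 : K) (four_ne_zero' hK))⁻¹) ^ 4 = (ut 1 ^ 2) ^ 4 := by
      rw [h1]
    rw [conj_pow] at h3
    rw [h3, ← pow_mul, ut_pow]
    congr 1
    push_cast
    linear_combination (-1) * seven_eq_zero hK
  conv_lhs => rw [h2]
  group

include hK in
/-- **The weights of an element of order seven.** -/
theorem weights_l27 (h7 : (7 : F) ≠ 0) {ζ : AlgebraicClosure F} (hζ : IsPrimitiveRoot ζ 7) :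
    (∀ j : ZMod 7, j ≠ 0 → finrank (AlgebraicClosure F)
      (W 7 ζ (fun k => h.σ ((![uu] : Fin 1 → Matrix.ProjectiveSpecialLinearGroup (Fin 2) K) k)) ![j]) = 1) ∧
    finrank (AlgebraicClosure F)
      (W 7 ζ (fun k => h.σ ((![uu] : Fin 1 → Matrix.ProjectiveSpecialLinearGroup (Fin 2) K) k)) ![0]) = 2 := by
  have h7' : ((7 : ℕ) : AlgebraicClosure F) ≠ 0 := cast_ne_zero (by exact_mod_cast h7)
  let x : Fin 1 → Matrix.ProjectiveSpecialLinearGroup (Fin 2) K := ![uu]
  have hcx : ∀ j k, x j * x k = x k * x j := by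
    intro j k
    rw [Subsingleton.elim j k]
  have hxp : ∀ k, x k ^ 7 = 1 := by
    intro k
    fin_cases k
    exact uu_pow hK
  have hc : ∀ j k, h.σ (x j) * h.σ (x k) = h.σ (x k) * h.σ (x j) := by
    intro j k
    rw [← map_mul, ← map_mul, hcx]
  have hf : ∀ k, h.σ (x k) ^ 7 = 1 := by
    intro k
    rw [← map_pow, hxp, map_one]
  have hsum := sum_W h7' hζ (f := fun k => h.σ (x k)) hc hf
  set D : ZMod 7 → ℕ := fun j => finrank (AlgebraicClosure F) (W 7 ζ (fun k => h.σ (x k)) ![j]) with hD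
  have hζ3 := hζ.pow_eq_one
  have hDle : ∀ i, D i ≤ D (i + i + (i + i)) := by
    intro i
    refine finrank_W_le (QuotientGroup.mk (dg (4 : K) (four_ne_zero' hK))) fun v hv k => ?_
    rw [mem_W] at hv
    have ha : h.σ uu v = ζ ^ i.val • v := hv 0
    have h4 : (QuotientGroup.mk (dg (4 : K) (four_ne_zero' hK)) : Matrix.ProjectiveSpecialLinearGroup (Fin 2) K)⁻¹ *
        uu * QuotientGroup.mk (dg (4 : K) (four_ne_zero' hK)) = uu * uu * (uu * uu) := by
      have h5 := conj_inv_ut hK
      have h6 : (ut (1 : K)) ^ 4 = ut 1 * ut 1 * (ut 1 * ut 1) := by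
        simp only [pow_succ, pow_zero, one_mul, mul_assoc]
      rw [h6] at h5
      have h7 := congrArg (fun g : SpecialLinearGroup (Fin 2) K =>
        (QuotientGroup.mk g : Matrix.ProjectiveSpecialLinearGroup (Fin 2) K)) h5
      exact h7
    fin_cases k
    change h.σ (_⁻¹ * uu * _) v = ζ ^ (i + i + (i + i)).val • v
    rw [h4, Cfsg.Agent.H637.JW.act_mul (Cfsg.Agent.H637.JW.act_mul ha ha) (Cfsg.Agent.H637.JW.act_mul ha ha),
      pow_val_add hζ3, pow_val_add hζ3]
  have hneg : ∀ i, D (-i) = D i := by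
    intro i
    have h1 := h.finrank_W_neg h7' hζ hcx hxp ![i]
    have h2 : -(![i] : Fin 1 → ZMod 7) = ![-i] := by
      ext k; fin_cases k; rfl
    rw [h2] at h1
    exact h1
  have hs : ∑ i : Fin 7, D i = 8 := by
    rw [← Module.finrank_fin_fun (AlgebraicClosure F) (n := 8), ← hsum]
    rw [← (Equiv.funUnique (Fin 1) (ZMod 7)).symm.sum_comp]
    refine Finset.sum_congr rfl fun i _ => ?_
    have : (Equiv.funUnique (Fin 1) (ZMod 7)).symm i = ![i] := by
      ext k; fin_cases k; rfl
    rw [this]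
    rfl
  have hs' : D 0 + D 1 + D 2 + D 3 + D 4 + D 5 + D 6 = 8 := by
    rw [Fin.sum_univ_seven] at hs
    exact hs
  have e1 : D 1 ≤ D 4 := hDle 1
  have e2 : D 4 ≤ D 2 := hDle 4
  have e3 : D 2 ≤ D 1 := hDle 2
  have e4 : D 6 = D 1 := hneg 1
  have e5 : D 5 = D 2 := hneg 2
  have e6 : D 3 = D 4 := hneg 4
  have hne : D 0 ≠ 8 := by
    intro h0
    have h1 : W 7 ζ (fun k => h.σ (x k)) ![0] = ⊤ :=
      Submodule.eq_top_of_finrank_eq (by rw [Module.finrank_fin_fun]; exact h0)
    apply uu_ne_one (K := K)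
    apply h.σ_injective
    rw [map_one]
    apply LinearMap.ext
    intro v
    have h2 : v ∈ W 7 ζ (fun k => h.σ (x k)) ![0] := by rw [h1]; trivial
    rw [mem_W] at h2
    have h3 : h.σ uu v = ζ ^ (0 : ZMod 7).val • v := h2 0
    rw [h3, ZMod.val_zero, pow_zero, one_smul, Module.End.one_apply]
  have hall : D 0 = 2 ∧ D 1 = 1 ∧ D 2 = 1 ∧ D 3 = 1 ∧ D 4 = 1 ∧ D 5 = 1 ∧ D 6 = 1 := by
    clear_value D
    omega
  refine ⟨?_, hall.1⟩
  intro j hj
  change D j = 1
  revert hj
  obtain ⟨h0, h1, h2, h3, h4, h5, h6⟩ := hall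
  have : ∀ j : ZMod 7, j ≠ 0 → j = 1 ∨ j = 2 ∨ j = 3 ∨ j = 4 ∨ j = 5 ∨ j = 6 := by decide
  intro hj
  rcases this j hj with rfl | rfl | rfl | rfl | rfl | rfl
  exacts [h1, h2, h3, h4, h5, h6]

end seven

/-- **`PSL₂(7)` in characteristic three.** -/
theorem no_l27_three {F : Type u} [Field F] [Fintype F] (h3 : (3 : F) = 0) {K : Type v} [Field K] [Fintype K]
    (hK : Fintype.card K = 7) (h : H917.Om.OC F (Matrix.ProjectiveSpecialLinearGroup (Fin 2) K)) : False := by
  have h7 : (7 : F) ≠ 0 := by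
    intro h7
    have : (1 : F) = 0 := by linear_combination h7 - 2 * h3
    exact one_ne_zero this
  have h7' : ((7 : ℕ) : AlgebraicClosure F) ≠ 0 := cast_ne_zero (by exact_mod_cast h7)
  have h3' : (3 : AlgebraicClosure F) = 0 := by
    have := congrArg (algebraMap F (AlgebraicClosure F)) h3
    rw [map_zero, map_ofNat] at this
    exact this
  obtain ⟨ζ, hζ⟩ := exists_root (K := AlgebraicClosure F) (N := 7) h7'
  have h2 := (weights_l27 hK h h7 hζ).2
  obtain ⟨v, hv, hv0⟩ := exists_fix_of_pos (U := W 7 ζ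
    (fun k => h.σ ((![uu] : Fin 1 → Matrix.ProjectiveSpecialLinearGroup (Fin 2) K) k)) ![0]) (by rw [h2]; norm_num)
  have hu : tau h (ut 1) v = v := by
    have := mem_W.1 hv 0
    change h.σ uu v = ζ ^ (0 : ZMod 7).val • v at this
    rw [ZMod.val_zero, pow_zero, one_smul] at this
    exact this
  set s : SpecialLinearGroup (Fin 2) K := dg (4 : K) (four_ne_zero' hK) with hs
  -- `s` preserves the fixed vectors
  have hsu : ∀ w, tau h (ut 1) w = w → tau h (ut 1) (tau h s w) = tau h s w := by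
    intro w hw
    have h5 := conj_inv_ut hK
    have h6 : ut 1 * s = s * ut 1 ^ 4 := by
      rw [← h5, hs]; group
    have h8 : ∀ n : ℕ, tau h (ut 1 ^ n) w = w := by
      intro n
      induction n with
      | zero => rw [pow_zero, map_one, Module.End.one_apply]
      | succ n ih => rw [pow_succ, map_mul, Module.End.mul_apply, hw, ih]
    rw [← Module.End.mul_apply, ← map_mul, h6, map_mul, Module.End.mul_apply, h8]
  have hs3 : tau h s * (tau h s * tau h s) = 1 := by
    have h5 : s * (s * s) = 1 := by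
      rw [hs, dg_mul, dg_mul]
      have : (4 : K) * (4 * 4) = 1 := by linear_combination 9 * seven_eq_zero hK
      rw [dg_congr _ this, dg_one]
    rw [← map_mul, ← map_mul, h5, map_one]
  -- the nilpotent operator
  let N : Module.End (AlgebraicClosure F) (Fin 8 → AlgebraicClosure F) := tau h s - 1
  have hN3 : ∀ w, N (N (N w)) = 0 := by
    intro w
    have h5 : tau h s (tau h s (tau h s w)) = w := LinearMap.congr_fun hs3 w
    simp only [N, LinearMap.sub_apply, Module.End.one_apply, map_sub]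
    rw [h5]
    have h6 : (3 : AlgebraicClosure F) • (tau h s w - tau h s (tau h s w)) = 0 := by rw [h3', zero_smul]
    rw [← h6]
    module
  have hNu : ∀ w, tau h (ut 1) w = w → tau h (ut 1) (N w) = N w := by
    intro w hw
    change tau h (ut 1) (tau h s w - w) = tau h s w - w
    rw [map_sub, hsu w hw, hw]
  have hfin : ∀ w, tau h (ut 1) w = w → N w = 0 → w = 0 := by
    intro w hw hNw
    refine no_borel_fixed hK h hw ?_
    exact sub_eq_zero.1 hNw
  apply hv0
  apply hfin v hu
  apply hfin _ (hNu v hu)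
  apply hfin _ (hNu _ (hNu v hu))
  exact hN3 v

end Cfsg.Agent.H24.Om
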