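import Cfsg.Agent.H24.Om.L27
import Cfsg.Agent.H917.OmAlt
import Mathlib.GroupTheory.OrderOfElement

/-!
# `PSL₂(8)` in `Ω₈⁻(q)`, `q` odd (helper24, row S5827)
-/

set_option autoImplicit false
set_option linter.unusedSectionVars false

namespace Cfsg.Agent.H24.Om

open Matrix OnePoint Module
open Cfsg.Agent.H917.Om Cfsg.Agent.H637.JW
open Cfsg.Agent.H871.Par (ut dg ut_mul ut_inj dg_ut)

universe u v w

section frob

variable {F : Type u} [Field F] {T : Type v} [Group T] (h : H917.Om.OC F T)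

/-- `2^3:7` : a vector `v`, not isotropic, fixed by the elementary abelian group and by the element of order seven -/
theorem exists_frob_fixed (h2 : (2 : F) ≠ 0) {a b c y : T} (ha : a * a = 1) (ha1 : a ≠ 1) (hab : a * b = b * a)
    (hya : y * a * y⁻¹ = b) (hyb : y * b * y⁻¹ = c) (hyc : y * c * y⁻¹ = a * b) (hy : y ^ 7 = 1) :
    ∃ v : Fin 8 → AlgebraicClosure F, v ≠ 0 ∧ h.σ a v = v ∧ h.σ y v = v := by
  classical
  have h2' : ((2 : ℕ) : AlgebraicClosure F) ≠ 0 := cast_ne_zero (by exact_mod_cast h2)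
  obtain ⟨ζ, hζ⟩ := exists_root (K := AlgebraicClosure F) (N := 2) h2'
  have conj2 : ∀ z w : T, y * z * y⁻¹ = w → z * z = 1 → w * w = 1 := by
    intro z w hz hzz
    rw [← hz]
    have : y * z * y⁻¹ * (y * z * y⁻¹) = y * (z * z) * y⁻¹ := by group
    rw [this, hzz]; group
  have hb : b * b = 1 := conj2 a b hya ha
  have hc : c * c = 1 := conj2 b c hyb hb
  have hbc : b * c = c * b := by
    rw [← hyb]
    conv_lhs => rw [← hya]
    conv_rhs => rw [← hya]
    have e1 : y * a * y⁻¹ * (y * (y * a * y⁻¹) * y⁻¹) = y * (a * (y * a * y⁻¹)) * y⁻¹ := by group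
    have e2 : y * (y * a * y⁻¹) * y⁻¹ * (y * a * y⁻¹) = y * ((y * a * y⁻¹) * a) * y⁻¹ := by group
    rw [e1, e2, hya, hab]
  have hac : a * c = c * a := by
    -- `a b = y c y⁻¹` commutes with `c = y b y⁻¹`
    have h1 : (a * b) * c = c * (a * b) := by
      rw [← hyc]
      nth_rewrite 2 [← hyb]
      nth_rewrite 2 [← hyb]
      have e1 : y * c * y⁻¹ * (y * b * y⁻¹) = y * (c * b) * y⁻¹ := by group
      have e2 : y * b * y⁻¹ * (y * c * y⁻¹) = y * (b * c) * y⁻¹ := by group
      rw [e1, e2, hbc]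
    have h2 : a * c * b = c * a * b := by
      rw [mul_assoc, ← hbc, ← mul_assoc, h1, mul_assoc]
    exact mul_right_cancel h2
  let x : Fin 3 → T := ![a, b, c]
  have hcx : ∀ j k, x j * x k = x k * x j := by
    intro j k
    fin_cases j <;> fin_cases k <;>
      first | rfl | exact hab | exact hab.symm | exact hbc | exact hbc.symm | exact hac | exact hac.symm
  have hxp : ∀ k, x k ^ 2 = 1 := by
    intro k
    rw [pow_two]
    fin_cases k
    · exact ha
    · exact hb
    · exact hc
  have hcc : ∀ j k, h.σ (x j) * h.σ (x k) = h.σ (x k) * h.σ (x j) := by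
    intro j k
    rw [← map_mul, ← map_mul, hcx]
  have hf : ∀ k, h.σ (x k) ^ 2 = 1 := by
    intro k
    rw [← map_pow, hxp, map_one]
  have hsum := sum_W h2' hζ (f := fun k => h.σ (x k)) hcc hf
  set D : (Fin 3 → ZMod 2) → ℕ := fun c => finrank (AlgebraicClosure F) (W 2 ζ (fun k => h.σ (x k)) c) with hD
  have hζ2 := hζ.pow_eq_one
  have ya : y⁻¹ * a * y = c * a := by
    have h1 : a = y * c * y⁻¹ * b := by rw [hyc, mul_assoc, hb, mul_one]
    rw [h1]
    nth_rewrite 1 [← hya]
    have e1 : y⁻¹ * (y * c * y⁻¹ * (y * a * y⁻¹)) * y = c * a := by group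
    rw [e1]
    nth_rewrite 1 [h1]
    rfl
  have yb : y⁻¹ * b * y = a := by rw [← hya]; group
  have yc : y⁻¹ * c * y = b := by rw [← hyb]; group
  let φ : (Fin 3 → ZMod 2) → (Fin 3 → ZMod 2) := fun e => ![e 2 + e 0, e 0, e 1]
  have hmap : ∀ (e : Fin 3 → ZMod 2), ∀ v ∈ W 2 ζ (fun k => h.σ (x k)) e, ∀ k,
      h.σ (y⁻¹ * x k * y) v = ζ ^ (φ e k).val • v := by
    intro e v hv k
    rw [mem_W] at hv
    have hva : h.σ a v = ζ ^ (e 0).val • v := hv 0
    have hvb : h.σ b v = ζ ^ (e 1).val • v := hv 1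
    have hvc : h.σ c v = ζ ^ (e 2).val • v := hv 2
    fin_cases k
    · change h.σ (y⁻¹ * a * y) v = ζ ^ (e 2 + e 0).val • v
      rw [ya, Cfsg.Agent.H637.JW.act_mul hvc hva, pow_val_add hζ2]
    · change h.σ (y⁻¹ * b * y) v = ζ ^ (e 0).val • v
      rw [yb, hva]
    · change h.σ (y⁻¹ * c * y) v = ζ ^ (e 1).val • v
      rw [yc, hvb]
  have hDle : ∀ e, D e ≤ D (φ e) := fun e => finrank_W_le y (hmap e)
  have hDle' : ∀ n e, D e ≤ D (φ^[n] e) := by
    intro n
    induction n with
    | zero => intro e; exact le_rfl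
    | succ n ih => intro e; rw [Function.iterate_succ_apply]; exact (hDle e).trans (ih _)
  have hDeq : ∀ e, e ≠ 0 → D e = D ![1, 0, 0] := by
    intro e he
    have h1 : ∀ e : Fin 3 → ZMod 2, e ≠ 0 → (∃ n : Fin 7, φ^[n] e = ![1, 0, 0]) ∧ (∃ n : Fin 7, φ^[n] ![1, 0, 0] = e) := by
      decide
    obtain ⟨⟨n, hn⟩, ⟨m, hm⟩⟩ := h1 e he
    refine le_antisymm ?_ ?_
    · have := hDle' n e
      rwa [hn] at this
    · have := hDle' m ![1, 0, 0]
      rwa [hm] at this
  have hs : D 0 + 7 * D ![1, 0, 0] = 8 := by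
    have h1 : ∑ e, D e = 8 := by rw [← Module.finrank_fin_fun (AlgebraicClosure F) (n := 8), ← hsum]
    rw [← Finset.add_sum_erase _ _ (Finset.mem_univ 0),
      Finset.sum_congr rfl (g := fun _ => D ![1, 0, 0]) (fun e he => hDeq e (Finset.ne_of_mem_erase he)),
      Finset.sum_const] at h1
    have h2 : (Finset.univ.erase (0 : Fin 3 → ZMod 2)).card = 7 := by decide
    rwa [h2, smul_eq_mul] at h1
  have hne : D 0 ≠ 8 := by
    intro h0
    have h1 : W 2 ζ (fun k => h.σ (x k)) 0 = ⊤ :=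
      Submodule.eq_top_of_finrank_eq (by rw [Module.finrank_fin_fun]; exact h0)
    apply ha1
    apply h.σ_injective
    rw [map_one]
    apply LinearMap.ext
    intro v
    have h2 : v ∈ W 2 ζ (fun k => h.σ (x k)) 0 := by rw [h1]; trivial
    rw [mem_W] at h2
    have h3 : h.σ a v = ζ ^ (0 : ZMod 2).val • v := h2 0
    rw [h3, ZMod.val_zero, pow_zero, one_smul, Module.End.one_apply]
  have hD0 : D 0 = 1 := by
    clear_value D
    omega
  obtain ⟨v, hv, hv0⟩ := exists_fix_of_pos (U := W 2 ζ (fun k => h.σ (x k)) 0) (by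
    change 0 < D 0
    rw [hD0]; norm_num)
  have hva : h.σ a v = v := by
    have h3 : h.σ a v = ζ ^ (0 : ZMod 2).val • v := mem_W.1 hv 0
    rw [h3, ZMod.val_zero, pow_zero, one_smul]
  refine ⟨v, hv0, hva, ?_⟩
  -- `v` is not isotropic
  have hiso : h.B v v ≠ 0 := by
    intro h0
    apply hv0
    apply h.B_nondeg
    intro w
    have htop := iSup_W h2' hζ (f := fun k => h.σ (x k)) hcc hf
    have hw : w ∈ (⨆ d, W 2 ζ (fun k => h.σ (x k)) d) := by rw [htop]; trivial
    induction hw using Submodule.iSup_induction' with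
    | mem d w hw =>
      by_cases hd : d = 0
      · subst hd
        obtain ⟨r, hr⟩ := (finrank_eq_one_iff_of_nonzero' (⟨v, hv⟩ : W 2 ζ (fun k => h.σ (x k)) 0)
          (fun h1 => hv0 (congrArg Subtype.val h1))).1 hD0 ⟨w, hw⟩
        have hr' : r • v = w := congrArg Subtype.val hr
        rw [← hr', h.B_smul_left, h0, mul_zero]
      · exact h.B_eq_zero hζ (by rw [add_zero]; exact hd) hw hv
    | zero => rw [show (0 : Fin 8 → AlgebraicClosure F) = (0 : AlgebraicClosure F) • 0 by simp, h.B_smul_left, zero_mul]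
    | add a b _ _ ha hb => rw [h.B_add_left, ha, hb, add_zero]
  -- `y v = r v`
  have hyv : h.σ y v ∈ W 2 ζ (fun k => h.σ (x k)) 0 := by
    rw [mem_W]
    intro k
    have h1 := hmap 0 v hv k
    have h2 : h.σ (x k) (h.σ y v) = h.σ y (h.σ (y⁻¹ * x k * y) v) := by
      rw [← Cfsg.Agent.H637.JW.mul_apply', ← Cfsg.Agent.H637.JW.mul_apply']
      congr 2
      group
    have h3 : φ 0 k = 0 := by
      fin_cases k <;> rfl
    rw [h2, h1, _root_.map_smul, h3]
    rfl
  obtain ⟨r, hr⟩ := (finrank_eq_one_iff_of_nonzero' (⟨v, hv⟩ : W 2 ζ (fun k => h.σ (x k)) 0)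
    (fun h1 => hv0 (congrArg Subtype.val h1))).1 hD0 ⟨h.σ y v, hyv⟩
  have hr' : r • v = h.σ y v := congrArg Subtype.val hr
  have hr2 : r * r = 1 := by
    have h1 := h.B_inv y v v
    rw [← hr', h.B_smul_left, h.B_smul_right] at h1
    have h3 : (r * r - 1) * h.B v v = 0 := by linear_combination h1
    exact sub_eq_zero.1 ((mul_eq_zero.1 h3).resolve_right hiso)
  have hr7 : r ^ 7 = 1 := by
    have h1 := pow_apply hr'.symm 7
    rw [← map_pow, hy, map_one, Module.End.one_apply] at h1
    have h3 : (r ^ 7 - 1) • v = 0 := by rw [sub_smul, one_smul, ← h1, sub_self]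
    exact sub_eq_zero.1 ((smul_eq_zero.1 h3).resolve_right hv0)
  have hr1 : r = 1 := by
    have : r ^ 7 = r := by
      calc r ^ 7 = (r * r) * (r * r) * (r * r) * r := by ring
        _ = r := by rw [hr2]; ring
    rw [← this, hr7]
  rw [← hr', hr1, one_smul]

end frob

section eight

variable {K : Type v} [Field K] [Fintype K]

theorem exists_root_eight (hK : Fintype.card K = 8) : (2 : K) = 0 ∧ (∀ x : K, x ^ 8 = x) ∧ ∃ m : K, m ^ 3 = m + 1 := by
  have hchar : CharP K 2 := by
    obtain ⟨p, hp⟩ := CharP.exists K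
    have : Fact p.Prime := ⟨CharP.char_is_prime K p⟩
    have h1 : p ∣ Fintype.card K := by
      obtain ⟨n, -, hn⟩ := FiniteField.card K p
      rw [hn]; exact dvd_pow_self _ n.pos.ne'
    rw [hK] at h1
    have h2 : p ∣ 2 := this.out.dvd_of_dvd_pow (show p ∣ 2 ^ 3 from h1)
    rw [(Nat.prime_dvd_prime_iff_eq this.out Nat.prime_two).1 h2] at hp
    exact hp
  have h20 : (2 : K) = 0 := by exact_mod_cast CharP.cast_eq_zero K 2
  have hpow : ∀ x : K, x ^ 8 = x := by
    intro x
    rw [← hK]; exact FiniteField.pow_card x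
  have hex : ∃ x : K, x ≠ 0 ∧ x ≠ 1 := by
    classical
    by_contra hcon
    push Not at hcon
    have h1 : (Finset.univ : Finset K) ⊆ {0, 1} := by
      intro x _
      rw [Finset.mem_insert, Finset.mem_singleton]
      by_cases h0 : x = 0
      · exact Or.inl h0
      · exact Or.inr (hcon x h0)
    have h2 := Finset.card_le_card h1
    rw [Finset.card_univ, hK] at h2
    have h3 : ({0, 1} : Finset K).card ≤ 2 := Finset.card_le_two
    omega
  refine ⟨h20, hpow, ?_⟩
  obtain ⟨x, hx0, hx1⟩ := hex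
  have h1 : x * (x - 1) * ((x ^ 3 + x + 1) * (x ^ 3 + x ^ 2 + 1)) = 0 := by
    linear_combination hpow x + (x ^ 5 - x ^ 4) * h20
  have h2 : (x ^ 3 + x + 1) * (x ^ 3 + x ^ 2 + 1) = 0 :=
    (mul_eq_zero.1 h1).resolve_left (mul_ne_zero hx0 (sub_ne_zero.2 hx1))
  rcases mul_eq_zero.1 h2 with h3 | h3
  · exact ⟨x, by linear_combination h3 - (x + 1) * h20⟩
  · refine ⟨x⁻¹, ?_⟩
    field_simp
    linear_combination h3 - (x ^ 2 + x ^ 3) * h20

theorem dg_pow {l : K} (hl : l ≠ 0) (n : ℕ) : dg l hl ^ n = dg (l ^ n) (pow_ne_zero n hl) := by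
  induction n with
  | zero =>
    rw [pow_zero, dg_congr _ (pow_zero l), dg_one]
  | succ n ih =>
    rw [pow_succ, ih, dg_mul, dg_congr _ (pow_succ l n).symm]

theorem ut_zero : ut (0 : K) = 1 := by
  apply Subtype.ext
  change !![(1 : K), 0; 0, 1] = 1
  exact Matrix.one_fin_two.symm

/-- a matrix fixing a point satisfies `g ^ 14 = 1` -/
theorem pow_fourteen [DecidableEq K] (hK : Fintype.card K = 8) (g : SpecialLinearGroup (Fin 2) K) (o : OnePoint K)
    (hg : act g o = o) : g ^ 14 = 1 := by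
  obtain ⟨h20, hpow, -⟩ := exists_root_eight hK
  have h1 : ((rep o)⁻¹ * (g * rep o)).1 1 0 = 0 := by
    rw [← act_infty, act_mul, act_mul, act_rep, hg, act_rep_inv]
  obtain ⟨x, hx, t, hxt⟩ := upper_eq _ h1
  have hx7 : x ^ 7 = 1 := by
    have h2 : x * (x ^ 7 - 1) = 0 := by linear_combination hpow x
    exact sub_eq_zero.1 ((mul_eq_zero.1 h2).resolve_left hx)
  -- powers of upper triangular matrices
  have h3 : ∀ n : ℕ, ∃ s : K, (dg x hx * ut t) ^ n = ut s * dg (x ^ n) (pow_ne_zero n hx) := by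
    intro n
    induction n with
    | zero => exact ⟨0, by rw [pow_zero, ut_zero, dg_congr _ (pow_zero x), dg_one, mul_one]⟩
    | succ n ih =>
      obtain ⟨s, hs⟩ := ih
      refine ⟨s + x ^ (n + 1) * x ^ (n + 1) * t, ?_⟩
      rw [pow_succ, hs, ← ut_mul, ← dg_ut (pow_ne_zero (n + 1) hx)]
      have h4 : dg (x ^ n) (pow_ne_zero n hx) * dg x hx = dg (x ^ (n + 1)) (pow_ne_zero (n + 1) hx) := by
        rw [dg_mul, dg_congr _ (pow_succ x n).symm]
      rw [← h4]
      group
  obtain ⟨s, hs⟩ := h3 7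
  rw [dg_congr _ hx7, dg_one, mul_one] at hs
  have h5 : (dg x hx * ut t) ^ 14 = 1 := by
    rw [show 14 = 7 * 2 by norm_num, pow_mul, hs, pow_two, ut_mul]
    have : s + s = 0 := by linear_combination s * h20
    rw [this, ut_zero]
  rw [← hxt] at h5
  have h6 : g = rep o * ((rep o)⁻¹ * (g * rep o)) * (rep o)⁻¹ := by group
  rw [h6, conj_pow, h5]
  group

variable {F : Type u} [Field F] (h : H917.Om.OC F (Matrix.ProjectiveSpecialLinearGroup (Fin 2) K))

theorem borel_fixed_eight (hK : Fintype.card K = 8) {l : K} (hl : l ≠ 0) (hl1 : l ≠ 1)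
    {v : Fin 8 → AlgebraicClosure F} (h1 : tau h (ut 1) v = v)
    (h2 : tau h (dg l hl) v = v) (b : SpecialLinearGroup (Fin 2) K) (hb : b.1 1 0 = 0) :
    tau h b v = v := by
  classical
  obtain ⟨h20, hpow, -⟩ := exists_root_eight hK
  let S := stab (tau h) v
  change b ∈ S
  have h1 : ut (1 : K) ∈ S := h1
  have h2 : dg l hl ∈ S := h2
  have hdg : ∀ (x : K) (hx : x ≠ 0), dg x hx ∈ S := by
    intro x hx
    have hcard : Nat.card Kˣ = 7 := by
      rw [Nat.card_eq_fintype_card, Fintype.card_units, hK]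
    have : Fact (Nat.Prime 7) := ⟨by norm_num⟩
    have h3 := mem_powers_of_prime_card (G := Kˣ) (g := Units.mk0 l hl) (g' := Units.mk0 x hx) hcard (by
      intro h4
      exact hl1 (congrArg Units.val h4))
    obtain ⟨n, hn⟩ := h3
    have h4 : l ^ n = x := by
      have := congrArg Units.val hn
      simpa using this
    have h5 := pow_mem h2 n
    rw [dg_pow] at h5
    rwa [dg_congr _ h4] at h5
  have hut : ∀ t : K, ut t ∈ S := by
    intro t
    by_cases ht : t = 0
    · rw [ht, ut_zero]; exact one_mem _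
    · have h3 := mul_mem (mul_mem (hdg (t ^ 4) (pow_ne_zero 4 ht)) h1) (inv_mem (hdg (t ^ 4) (pow_ne_zero 4 ht)))
      rw [dg_ut] at h3
      have h4 : t ^ 4 * t ^ 4 * 1 = t := by linear_combination hpow t
      rwa [h4] at h3
  obtain ⟨x, hx, t, rfl⟩ := upper_eq b hb
  exact mul_mem (hdg x hx) (hut t)

theorem tr_gram [DecidableEq K] [DecidableEq (OnePoint K)] {v : Fin 8 → AlgebraicClosure F}
    (hv : ∀ b : SpecialLinearGroup (Fin 2) K, b.1 1 0 = 0 → tau h b v = v) (i j : OnePoint K) :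
    h.B (tr (tau h) v i) (tr (tau h) v j) = if i = j then h.B v v else h.B v (tr (tau h) v ((0 : K) : OnePoint K)) := by
  by_cases hij : i = j
  · rw [if_pos hij, ← hij]
    exact tau_B h _ _ _
  · rw [if_neg hij]
    obtain ⟨g, hg1, hg2⟩ := exists_pair hij
    rw [← tau_B h g, tr_act (tau h) hv, tr_act (tau h) hv, hg1, hg2, tr_infty]

end eight

/-- **`PSL₂(8)`, `q` odd.** -/
theorem no_l28 {F : Type u} [Field F] [Fintype F] (h2 : (2 : F) ≠ 0) {K : Type v} [Field K] [Fintype K]
    (hK : Fintype.card K = 8) (h : H917.Om.OC F (Matrix.ProjectiveSpecialLinearGroup (Fin 2) K)) : False := by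
  classical
  obtain ⟨h20, hpow, m, hm⟩ := exists_root_eight hK
  have hm0 : m ≠ 0 := by
    rintro rfl
    norm_num at hm
  have hm1 : m ≠ 1 := by
    rintro rfl
    have : (1 : K) = 0 := by linear_combination (-1) * hm
    exact one_ne_zero this
  have hl : (m ^ 4) * (m ^ 4) = m := by rw [← pow_add]; exact hpow m
  have hl0 : m ^ 4 ≠ 0 := pow_ne_zero _ hm0
  have hl1 : m ^ 4 ≠ 1 := by
    intro h0
    rw [h0, mul_one] at hl
    exact hm1 hl.symm
  let π : SpecialLinearGroup (Fin 2) K →* Matrix.ProjectiveSpecialLinearGroup (Fin 2) K := QuotientGroup.mk' _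
  have haa : ut (1 : K) * ut 1 = 1 := by
    rw [ut_mul]
    have : (1 : K) + 1 = 0 := by linear_combination h20
    rw [this, ut_zero]
  obtain ⟨v, hv0, hva, hvy⟩ := exists_frob_fixed h h2 (a := π (ut 1)) (b := π (ut m)) (c := π (ut (m * m)))
    (y := π (dg (m ^ 4) hl0)) (by rw [← map_mul, haa, map_one]) uu_ne_one
    (by rw [← map_mul, ← map_mul, ut_mul, ut_mul, add_comm])
    (by rw [← map_inv, ← map_mul, ← map_mul, dg_ut, hl, mul_one])
    (by rw [← map_inv, ← map_mul, ← map_mul, dg_ut, hl])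
    (by
      rw [← map_inv, ← map_mul, ← map_mul, ← map_mul, dg_ut, hl, ut_mul]
      congr 2
      linear_combination hm)
    (by
      rw [← map_pow, dg_pow]
      have : (m ^ 4) ^ 7 = 1 := by
        have h3 : m ^ 4 * ((m ^ 4) ^ 7 - 1) = 0 := by linear_combination hpow (m ^ 4)
        exact sub_eq_zero.1 ((mul_eq_zero.1 h3).resolve_left hl0)
      rw [dg_congr _ this, dg_one, map_one])
  have hv := borel_fixed_eight h hK hl0 hl1 (v := v) hva hvy
  have hsp := span_tr h hv0 hv
  have hsum := sum_tr h hv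
  have hcard : Fintype.card (OnePoint K) = 9 := by
    have : Fintype.card (OnePoint K) = Fintype.card K + 1 := Fintype.card_option
    rw [this, hK]
  set α := h.B v v with hα
  set β := h.B v (tr (tau h) v ((0 : K) : OnePoint K)) with hβ
  have hgram := tr_gram h hv
  rw [← hα, ← hβ] at hgram
  -- `α ≠ β`
  have hne : α ≠ β := by
    intro hab
    have h1 : ∀ i j, h.B (tr (tau h) v i) (tr (tau h) v j) = β := by
      intro i j
      rw [hgram, hab, ite_self]
    have h3 : ∀ i, tr (tau h) v i = v := by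
      intro i
      rw [← sub_eq_zero]
      apply h.B_nondeg
      intro w
      have hw : w ∈ Submodule.span (AlgebraicClosure F) (Set.range (tr (tau h) v)) := by rw [hsp]; trivial
      induction hw using Submodule.span_induction with
      | mem x hx =>
        obtain ⟨j, rfl⟩ := hx
        have h4 := h1 j i
        have h5 := h1 j ∞
        rw [tr_infty] at h5
        rw [sub_eq_add_neg, h.B_add_right, ← neg_one_smul (AlgebraicClosure F) v, h.B_smul_right, h4, h5]
        ring
      | zero => rw [show (0 : Fin 8 → AlgebraicClosure F) = (0 : AlgebraicClosure F) • 0 by simp, h.B_smul_left, zero_mul]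
      | add x y _ _ hx hy => rw [h.B_add_left, hx, hy, add_zero]
      | smul c x _ hx => rw [h.B_smul_left, hx, mul_zero]
    apply hv0
    apply eq_zero_of_tau h
    intro g
    have h4 := tr_act (tau h) hv g ∞
    rwa [tr_infty, h3] at h4
  have hab := (h.gram_card _ hne hgram).2 hcard
  by_cases h3 : (3 : F) = 0
  · have h3' : (3 : AlgebraicClosure F) = 0 := by
      have := congrArg (algebraMap F (AlgebraicClosure F)) h3
      rw [map_zero, map_ofNat] at this
      exact this
    apply hne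
    linear_combination hab - 3 * β * h3'
  -- an element of order nine
  let c : SpecialLinearGroup (Fin 2) K := ⟨!![0, 1; 1, m], by
    rw [Matrix.det_fin_two_of]; linear_combination (-1) * h20⟩
  have hc3 : (c ^ 3).1 = !![m, m ^ 2 + 1; m ^ 2 + 1, m + 1] := by
    have h1 : (c ^ 3).1 = !![0, 1; 1, m] * !![0, 1; 1, m] * !![0, 1; 1, m] := by
      rw [pow_succ, pow_two]; rfl
    rw [h1]
    ext i j
    fin_cases i <;> fin_cases j <;> simp [Matrix.mul_apply, Fin.sum_univ_two]
    · ring
    · ring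
    · linear_combination hm + m * h20
  have hc9 : c ^ 9 = 1 := by
    have h1 : (c ^ 9).1 = !![m, m ^ 2 + 1; m ^ 2 + 1, m + 1] * !![m, m ^ 2 + 1; m ^ 2 + 1, m + 1] *
        !![m, m ^ 2 + 1; m ^ 2 + 1, m + 1] := by
      rw [show 9 = 3 * 3 by norm_num, pow_mul, pow_succ, pow_two, ← hc3]; rfl
    apply Subtype.ext
    rw [h1]
    change _ = (1 : Matrix (Fin 2) (Fin 2) K)
    rw [Matrix.one_fin_two]
    ext i j
    fin_cases i <;> fin_cases j <;> simp [Matrix.mul_apply, Fin.sum_univ_two]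
    · linear_combination (10 + m + 3 * m ^ 2) * hm + (5 + 7 * m + 3 * m ^ 2) * h20
    · linear_combination (4 + 7 * m + m ^ 3) * hm + (3 + 7 * m + 7 * m ^ 2) * h20
    · linear_combination (4 + 7 * m + m ^ 3) * hm + (3 + 7 * m + 7 * m ^ 2) * h20
    · linear_combination (10 + 2 * m + 3 * m ^ 2) * hm + (6 + 9 * m + 6 * m ^ 2) * h20
  have hc3ne : c ^ 3 ≠ 1 := by
    intro h0
    have h1 := congrArg (fun g : SpecialLinearGroup (Fin 2) K => g.1 0 1) h0
    simp only [hc3] at h1
    change m ^ 2 + 1 = 0 at h1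
    have h4 : (m + 1) ^ 2 = 0 := by linear_combination h1 + m * h20
    apply hm1
    have h5 := pow_eq_zero_iff (two_ne_zero) |>.1 h4
    linear_combination h5 - h20
  have hcord : orderOf c = 9 := by
    have : Fact (Nat.Prime 3) := ⟨Nat.prime_three⟩
    have := orderOf_eq_prime_pow (x := c) (p := 3) (n := 1) (by rw [pow_one]; exact hc3ne) (by
      rw [show 3 ^ (1 + 1) = 9 by norm_num]; exact hc9)
    rw [this]; norm_num
  -- `c` acts regularly on the line
  have hreg : ∀ o : OnePoint K, Function.Injective (fun k : Fin 9 => act (c ^ (k : ℕ)) o) := by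
    intro o
    have key : ∀ k l : ℕ, k ≤ l → l < 9 → act (c ^ k) o = act (c ^ l) o → k = l := by
      intro k l hkl hl9 hkl2
      have h1 : act (c ^ (l - k)) o = o := by
        apply act_inj (c ^ k)
        rw [← act_mul, ← pow_add, Nat.add_sub_cancel' hkl, hkl2]
      have h4 := pow_fourteen hK _ _ h1
      have h5 : c ^ (l - k) = 1 := by
        have h6 : (c ^ (l - k)) ^ 9 = 1 := by rw [← pow_mul, mul_comm, pow_mul, hc9, one_pow]
        have h7 := orderOf_dvd_of_pow_eq_one h4
        have h8 := orderOf_dvd_of_pow_eq_one h6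
        have h9 := Nat.dvd_gcd h7 h8
        have h10 : Nat.gcd 14 9 = 1 := by norm_num
        rw [h10, Nat.dvd_one] at h9
        exact orderOf_eq_one_iff.1 h9
      have h6 := orderOf_dvd_of_pow_eq_one h5
      rw [hcord] at h6
      have h7 := Nat.eq_zero_of_dvd_of_lt h6 (by omega)
      omega
    intro k l hkl
    apply Fin.ext
    rcases le_total (k : ℕ) (l : ℕ) with h1 | h1
    · exact key k l h1 l.2 hkl
    · exact (key l k h1 k.2 hkl.symm).symm
  have hbij : ∀ o : OnePoint K, Function.Bijective (fun k : Fin 9 => act (c ^ (k : ℕ)) o) := by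
    intro o
    rw [Fintype.bijective_iff_injective_and_card]
    exact ⟨hreg o, by rw [hcard, Fintype.card_fin]⟩
  have hN : ∀ w, ∑ k : Fin 9, tau h (c ^ (k : ℕ)) w = 0 := by
    intro w
    have hw : w ∈ Submodule.span (AlgebraicClosure F) (Set.range (tr (tau h) v)) := by rw [hsp]; trivial
    induction hw using Submodule.span_induction with
    | mem x hx =>
      obtain ⟨j, rfl⟩ := hx
      rw [Finset.sum_congr rfl fun k _ => tr_act (tau h) hv _ j, ← hsum]
      exact (hbij j).sum_comp (tr (tau h) v)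
    | zero => simp
    | add x y _ _ hx hy =>
      rw [← add_zero (0 : Fin 8 → AlgebraicClosure F)]
      nth_rewrite 1 [← hx]
      rw [← hy, ← Finset.sum_add_distrib]
      exact Finset.sum_congr rfl fun k _ => map_add _ _ _
    | smul a x _ hx =>
      rw [← smul_zero a, ← hx, Finset.smul_sum]
      exact Finset.sum_congr rfl fun k _ => _root_.map_smul _ _ _
  -- a fixed vector
  have hA : IsPGroup 3 (Subgroup.zpowers (π c)) := by
    rintro ⟨_, z, rfl⟩
    refine ⟨2, ?_⟩
    apply Subtype.ext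
    change ((π c) ^ z) ^ (3 ^ 2) = 1
    rw [← zpow_natCast, ← _root_.zpow_mul, mul_comm, _root_.zpow_mul, zpow_natCast, ← map_pow,
      show 3 ^ 2 = 9 by norm_num, hc9, map_one, _root_.one_zpow]
  obtain ⟨w, hw0, hw⟩ := h.exists_fixed_of_isPGroup (not_dvd_three h3) (Subgroup.zpowers (π c)) hA
  have hcw : ∀ k : ℕ, tau h (c ^ k) w = w := by
    intro k
    exact hw (π (c ^ k)) (by rw [map_pow]; exact pow_mem (Subgroup.mem_zpowers _) k)
  have h9 := hN w
  rw [Finset.sum_congr rfl fun k _ => hcw _, Finset.sum_const, Finset.card_univ, Fintype.card_fin,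
    ← Nat.cast_smul_eq_nsmul (AlgebraicClosure F)] at h9
  have h9' : ((9 : ℕ) : AlgebraicClosure F) ≠ 0 := by
    apply cast_ne_zero
    have : ((9 : ℕ) : F) = 3 * 3 := by norm_num
    rw [this]
    exact mul_ne_zero h3 h3
  exact hw0 ((smul_eq_zero.1 h9).resolve_left h9')

end Cfsg.Agent.H24.Om
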