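import Cfsg.Agent.H917.OmTools
import Cfsg.Agent.H871.Par6
import Mathlib.Topology.Compactification.OnePoint.ProjectiveLine

/-!
# Vectors fixed by the Borel subgroup of `SL₂(K)` (helper24, row S5827)

* `rep`, `exists_pair` : `SL₂(K)` is 2-transitive on `OnePoint K`;
* `tr` : the translates of a vector fixed by the upper triangular matrices, indexed by `OnePoint K`.
-/

set_option autoImplicit false
set_option linter.unusedSectionVars false

namespace Cfsg.Agent.H24.Om

open Matrix OnePoint
open scoped MatrixGroups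
open Cfsg.Agent.H871.Par (ut dg ut_mul ut_inj dg_ut)

universe u v w

section line

variable {K : Type v} [Field K] [DecidableEq K]

/-- the action of `SL₂` on the line -/
def act (g : SpecialLinearGroup (Fin 2) K) (o : OnePoint K) : OnePoint K :=
  (SpecialLinearGroup.toGL g) • o

theorem act_mul (g g' : SpecialLinearGroup (Fin 2) K) (o : OnePoint K) : act (g * g') o = act g (act g' o) := by
  unfold act
  rw [map_mul, mul_smul]

theorem act_one (o : OnePoint K) : act (1 : SpecialLinearGroup (Fin 2) K) o = o := by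
  unfold act
  rw [map_one, one_smul]

theorem act_inv_act (g : SpecialLinearGroup (Fin 2) K) (o : OnePoint K) : act g⁻¹ (act g o) = o := by
  rw [← act_mul, inv_mul_cancel, act_one]

theorem act_act_inv (g : SpecialLinearGroup (Fin 2) K) (o : OnePoint K) : act g (act g⁻¹ o) = o := by
  rw [← act_mul, mul_inv_cancel, act_one]

theorem act_inj (g : SpecialLinearGroup (Fin 2) K) {o o' : OnePoint K} (h : act g o = act g o') : o = o' := by
  rw [← act_inv_act g o, h, act_inv_act]

/-- the permutation -/
def actEquiv (g : SpecialLinearGroup (Fin 2) K) : Equiv.Perm (OnePoint K) where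
  toFun := act g
  invFun := act g⁻¹
  left_inv := act_inv_act g
  right_inv := act_act_inv g

theorem act_infty (g : SpecialLinearGroup (Fin 2) K) : act g ∞ = ∞ ↔ g.1 1 0 = 0 := by
  unfold act
  rw [smul_infty_eq_self_iff]
  rfl

theorem act_some (g : SpecialLinearGroup (Fin 2) K) (k : K) :
    act g (k : OnePoint K) = if g.1 1 0 * k + g.1 1 1 = 0 then ∞ else
      (((g.1 0 0 * k + g.1 0 1) / (g.1 1 0 * k + g.1 1 1) : K) : OnePoint K) := by
  unfold act
  exact smul_some_eq_ite

theorem act_infty' (g : SpecialLinearGroup (Fin 2) K) :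
    act g (∞ : OnePoint K) = if g.1 1 0 = 0 then ∞ else ((g.1 0 0 / g.1 1 0 : K) : OnePoint K) := by
  unfold act
  exact smul_infty_eq_ite _

/-- the matrix with first column `(t, 1)` -/
def rp (t : K) : SpecialLinearGroup (Fin 2) K := ⟨!![t, -1; 1, 0], by simp [Matrix.det_fin_two]⟩

/-- the representative of a point -/
def rep (o : OnePoint K) : SpecialLinearGroup (Fin 2) K := o.elim 1 rp

theorem rep_infty : rep (∞ : OnePoint K) = 1 := rfl
theorem rep_some (t : K) : rep (t : OnePoint K) = rp t := rfl

theorem act_rep (o : OnePoint K) : act (rep o) ∞ = o := by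
  induction o using OnePoint.rec with
  | infty => rw [rep_infty, act_one]
  | coe t =>
    rw [rep_some, act_infty']
    simp [rp]

theorem act_rep_inv (o : OnePoint K) : act (rep o)⁻¹ o = ∞ := by
  have h := act_inv_act (rep o) ∞
  rwa [act_rep] at h

theorem exists_pair {i j : OnePoint K} (hij : i ≠ j) :
    ∃ g : SpecialLinearGroup (Fin 2) K, act g i = ∞ ∧ act g j = ((0 : K) : OnePoint K) := by
  have h1 : act (rep i)⁻¹ i = ∞ := act_rep_inv i
  have h2 : act (rep i)⁻¹ j ≠ ∞ := by
    intro h
    rw [← h1] at h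
    exact hij (act_inj _ h).symm
  obtain ⟨t, ht⟩ := OnePoint.ne_infty_iff_exists.1 h2
  refine ⟨ut (-t) * (rep i)⁻¹, ?_, ?_⟩
  · rw [act_mul, h1, act_infty]
    simp [ut]
  · rw [act_mul, ← ht, act_some]
    simp [ut]

variable {L : Type*} {V : Type*} [Field L] [AddCommGroup V] [Module L V]
  (τ : SpecialLinearGroup (Fin 2) K →* Module.End L V)

/-- the translates -/
def tr (v : V) (o : OnePoint K) : V := τ (rep o) v

theorem tr_infty (v : V) : tr τ v ∞ = v := by
  rw [tr, rep_infty, map_one, Module.End.one_apply]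

theorem tr_act {v : V} (hv : ∀ b : SpecialLinearGroup (Fin 2) K, b.1 1 0 = 0 → τ b v = v)
    (g : SpecialLinearGroup (Fin 2) K) (o : OnePoint K) : τ g (tr τ v o) = tr τ v (act g o) := by
  have h1 : ((rep (act g o))⁻¹ * (g * rep o)).1 1 0 = 0 := by
    rw [← act_infty, act_mul, act_mul, act_rep, act_rep_inv]
  have h2 := hv _ h1
  have h3 : g * rep o = rep (act g o) * ((rep (act g o))⁻¹ * (g * rep o)) := by group
  rw [tr, tr, ← Module.End.mul_apply, ← map_mul, h3, map_mul, Module.End.mul_apply, h2]

end line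

section psl

open Cfsg.Agent.H917.Om Cfsg.Agent.H637.JW

variable {F : Type u} [Field F] {K : Type v} [Field K]

/-- the representation of `SL₂` -/
noncomputable def tau (h : H917.Om.OC F (Matrix.ProjectiveSpecialLinearGroup (Fin 2) K)) :
    SpecialLinearGroup (Fin 2) K →* Module.End (AlgebraicClosure F) (Fin 8 → AlgebraicClosure F) :=
  h.σ.comp (QuotientGroup.mk' (Subgroup.center (SpecialLinearGroup (Fin 2) K)))

variable (h : H917.Om.OC F (Matrix.ProjectiveSpecialLinearGroup (Fin 2) K))

theorem tau_apply (g : SpecialLinearGroup (Fin 2) K) : tau h g = h.σ (QuotientGroup.mk g) := rfl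

theorem tau_center {g : SpecialLinearGroup (Fin 2) K} (hg : g ∈ Subgroup.center (SpecialLinearGroup (Fin 2) K)) :
    tau h g = 1 := by
  have h1 : (QuotientGroup.mk g : Matrix.ProjectiveSpecialLinearGroup (Fin 2) K) = 1 :=
    (QuotientGroup.eq_one_iff g).2 hg
  rw [tau_apply, h1, map_one]

theorem tau_B (g : SpecialLinearGroup (Fin 2) K) (u v : Fin 8 → AlgebraicClosure F) :
    h.B (tau h g u) (tau h g v) = h.B u v := h.B_inv _ u v

theorem eq_zero_of_tau {v : Fin 8 → AlgebraicClosure F} (hv : ∀ g, tau h g v = v) : v = 0 := by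
  apply h.eq_zero_of_fixed
  intro g
  obtain ⟨g, rfl⟩ := QuotientGroup.mk_surjective g
  exact hv g

variable [DecidableEq K]

theorem span_tr {v : Fin 8 → AlgebraicClosure F} (h0 : v ≠ 0)
    (hv : ∀ b : SpecialLinearGroup (Fin 2) K, b.1 1 0 = 0 → tau h b v = v) :
    Submodule.span (AlgebraicClosure F) (Set.range (tr (tau h) v)) = ⊤ := by
  rw [eq_top_iff, ← h.span_orbit h0, Submodule.span_le]
  rintro _ ⟨g, rfl⟩
  obtain ⟨g, rfl⟩ := QuotientGroup.mk_surjective g
  refine Submodule.subset_span ⟨act g ∞, ?_⟩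
  rw [← tr_act (tau h) hv, tr_infty]
  rfl

theorem sum_tr [Fintype K] {v : Fin 8 → AlgebraicClosure F}
    (hv : ∀ b : SpecialLinearGroup (Fin 2) K, b.1 1 0 = 0 → tau h b v = v) :
    ∑ o, tr (tau h) v o = 0 := by
  apply eq_zero_of_tau h
  intro g
  rw [map_sum, Finset.sum_congr rfl fun o _ => tr_act (tau h) hv g o]
  exact Equiv.sum_comp (actEquiv g) (tr (tau h) v)

end psl

end Cfsg.Agent.H24.Om
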